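import Cfsg.Agent.GW.DihCent
import Cfsg.Agent.Block.Klein2
import Cfsg.Agent.Small.DefComb

/-! Involutions whose centralizer has a four-group as Sylow 2-subgroup: `card_le_four`,
`sylow_of_four` (no subgroup of index 2 forces Sylow 2-subgroups of order 4) and
`index_le_of_klein` (`|G : C(t)| ≤ 15` when `C(t)` centralizes the four-group). -/

set_option autoImplicit false
set_option linter.unusedSectionVars false
set_option linter.unusedVariables false

namespace Cfsg.Agent.GW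

open Cfsg.Agent.BG Cfsg.Agent.PF Subgroup
open Cfsg.Agent.Invol hiding orderOf_conj'

variable {X : Type*} [Group X] [Finite X] {t g x y : X} {S T V : Subgroup X}

theorem exists_index_two (hP : IsPGroup 2 X) (h : T ≠ ⊤) : ∃ M, T ≤ M ∧ M.index = 2 :=
  let ⟨M, a, b⟩ := maxSub_exists (lt_top_iff_ne_top.2 h)
  ⟨M, a, relIndex_top_right M ▸ p_maximal_index (hP.to_subgroup ⊤) b⟩

/-- A non-cyclic 2-group all of whose subgroups of index 2 contain an involution with centralizer of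
order at most 4 has order at most 4. -/
theorem card_le_four (hP : IsPGroup 2 X) (hc : ¬ IsCyclic X)
    (h : ∀ M : Subgroup X, M.index = 2 → ∃ y ∈ M, orderOf y = 2 ∧ #C1[y] ≤ 4) : Nat.card X ≤ 4 := by
  have n : ∀ c : X, zpowers c ≠ ⊤ := fun c e => hc (isCyclic_iff_exists_zpowers_eq_top.2 ⟨c, e⟩)
  obtain ⟨A, -, hA⟩ := exists_index_two hP (n 1)
  obtain ⟨c, -, cA⟩ := SetLike.not_le_iff_exists.1 fun k : ⊤ ≤ A => by simp [top_le_iff.1 k] at hA
  obtain ⟨B, cB, hB⟩ := exists_index_two hP (n c)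
  rw [zpowers_le] at cB
  have mA := fun {a b} => mul_mem_iff_of_index_two hA (a := a) (b := b)
  have mB := fun {a b} => mul_mem_iff_of_index_two hB (a := a) (b := b)
  have i4 : 4 ≤ (A ⊓ B).index := by
    rw [← relIndex_mul_index (inf_le_right : A ⊓ B ≤ B), hB]
    have : (A ⊓ B).relIndex B ≠ 0 := index_ne_zero_of_finite
    have : (A ⊓ B).relIndex B ≠ 1 := fun e => cA (relIndex_eq_one.1 e cB).1
    omega
  have key : ∀ y : X, #C1[y] ≤ 4 → ∀ w ∈ A ⊓ B, IsConj y (y * w) := fun y hy w hw => by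
    refine (Set.eq_of_subset_of_ncard_le (s := {v | IsConj y v}) (t := (y * ·) '' (A ⊓ B : Subgroup X))
      (fun v hv => ?_) ?_).ge ⟨w, hw, rfl⟩
    · obtain ⟨g, rfl⟩ := _root_.isConj_iff.1 hv
      exact ⟨y⁻¹ * (g * y * g⁻¹), by
        simp only [SetLike.mem_coe, mem_inf, mA, mB, inv_mem_iff]; tauto, by simp⟩
    · rw [Set.ncard_image_of_injective _ (mul_right_injective y), ncard_isConj]
      change #(A ⊓ B) ≤ _
      nlinarith [(A ⊓ B).card_mul_index, C1[y].card_mul_index]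
  have nm : ∀ y : X, orderOf y = 2 → #C1[y] ≤ 4 → y ∉ A ⊓ B := fun y a b e =>
    ne_one_of a (by simpa using key y b _ (inv_mem e))
  have iv : ∀ y : X, orderOf y = 2 → #C1[y] ≤ 4 → ∀ w ∈ A ⊓ B, y * w * (y * w) = 1 := fun y a b w e =>
    mul_self_of (orderOf_of_isConj (key y b w e) ▸ a)
  obtain ⟨a, aA, a2, a4⟩ := h A hA
  obtain ⟨b, bB, b2, b4⟩ := h B hB
  obtain ⟨d, hd, d2, d4⟩ := h ⟨⟨⟨{g | g ∈ A ↔ g ∈ B}, fun {x y} a b => by
      simp only [Set.mem_ofPred, mA, mB] at *; tauto⟩, by simp⟩, by simp⟩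
    (index_eq_two_iff.2 ⟨c, fun g => by
      simp only [mem_mk, Submonoid.mem_mk, Subsemigroup.mem_mk, Set.mem_ofPred, mA, mB, Xor]; tauto⟩)
  have aB : a ∉ B := fun e => nm a a2 a4 ⟨aA, e⟩
  have bA : b ∉ A := fun e => nm b b2 b4 ⟨e, bB⟩
  have dA : d ∉ A := fun e => nm d d2 d4 ⟨e, (hd : _ ↔ _).1 e⟩
  have dB : d ∉ B := mt (hd : _ ↔ _).2 dA
  have k : ∀ w ∈ A ⊓ B, a * b * w * (a * b * w) = 1 := fun w hw => by
    simpa using iv d d2 d4 (d⁻¹ * (a * b * w)) (by simpa [mA, mB, aA, aB, bA, bB, dA, dB] using hw)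
  have ab : Commute a b := commute_of_mul_sq (mul_self_of a2) (mul_self_of b2) (by simpa using k 1 (one_mem _))
  have a1 := cent1_self a
  have b1 := mem_cent1.2 ab.symm
  have aw : ∀ w ∈ A ⊓ B, w ∈ C1[a] := fun w hw => (mul_mem_cancel_left b1).1 (mem_cent1.2
    (commute_of_mul_sq (mul_self_of a2) (iv b b2 b4 w hw) (mul_assoc a b w ▸ k w hw)).symm)
  refine (card_top (G := X) ▸ card_le_of_le fun g _ => ?_ : Nat.card X ≤ #C1[a]).trans a4
  by_cases gA : g ∈ A <;> by_cases gB : g ∈ B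
  · exact aw g ⟨gA, gB⟩
  · exact (mul_mem_cancel_left a1).1 (aw _ (by simp [*]))
  · exact (mul_mem_cancel_left b1).1 (aw _ (by simp [*]))
  · exact (mul_mem_cancel_left (mul_mem a1 b1)).1 (aw _ (by simp [*]))

theorem sylow_of_four (hG : ∀ H : Subgroup X, H.index ≠ 2) (hx : orderOf x = 2) (hV : IsKleinFour V)
    (hxV : x ∈ V) (h8 : ¬ 8 ∣ #C1[x]) : ∃ P : Sylow 2 X, (P : Subgroup X) = V := by
  obtain ⟨P, hP⟩ := (isPGroup_of_isKleinFour hV).exists_le_sylow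
  refine ⟨P, (eq_of_card_le hP (hV.card_four ▸ card_le_four P.isPGroup'
    (fun k => hV.not_isCyclic (cyclicS hP k)) fun M hM => ?_)).symm⟩
  obtain ⟨g, a, b⟩ := thompson_transfer hG P (Q := M.map (P : Subgroup X).subtype)
    (by rwa [relIndex, subgroupOf, comap_map_eq_self_of_injective (subtype_injective _)]) (mul_self_of hx) (hP hxV)
  obtain ⟨y, hy, e⟩ := b
  refine ⟨y, hy, by rw [← orderOf_coe, show (y : X) = _ from e, orderOf_conj', hx], ?_⟩
  obtain ⟨n, hn⟩ := (P.isPGroup'.to_subgroup C1[y]).exists_card_eq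
  have k : 2 ^ n ∣ #C1[x] := by
    rw [← hn, ← card_map_subtype, ← card_cj g C1[x], ← C1_conj, ← e]
    exact cardSg (by rintro _ ⟨z, hz, rfl⟩; exact mem_cent1.2 (congrArg Subtype.val (mem_cent1.1 hz)))
  exact hn ▸ Nat.pow_le_pow_right two_pos (not_lt.1 fun r : 2 < n => h8 ((pow_dvd_pow 2 r).trans k))

theorem arith15 {a b c : ℤ} {m : ℕ} (ha : 4 ∣ a - 1) (hb : 4 ∣ b - 1) (hc : 4 ∣ c - 1) (a1 : a ≠ 1)
    (b1 : b ≠ 1) (c1 : c ≠ 1) (h : 1 + a + b + c = 0) (e : (m : ℚ) * (1 + 1 / a + 1 / b + 1 / c) = 8) :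
    m ≤ 15 := by
  have k : ∀ a : ℤ, 4 ∣ a - 1 → a ≠ 1 → a = -3 ∨ (a ≤ -7 ∧ -1 / 7 ≤ (1 / a : ℚ)) ∨ 5 ≤ a ∧ 0 ≤ (1 / a : ℚ) :=
    fun a h h' => by
      rcases (by omega : a = -3 ∨ a ≤ -7 ∨ 5 ≤ a) with r | r | r
      · exact .inl r
      · have : (a : ℚ) ≤ -7 := by exact_mod_cast r
        exact .inr (.inl ⟨r, by rw [le_div_iff_of_neg (by linarith)]; linarith⟩)
      · exact .inr (.inr ⟨r, by positivity⟩)
  have : (11 / 21 : ℚ) ≤ 1 + 1 / a + 1 / b + 1 / c := by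
    rcases k a ha a1 with rfl | r | r <;> rcases k b hb b1 with rfl | s | s <;>
      rcases k c hc c1 with rfl | u | u <;>
      first | omega | (push_cast; linarith) | (rw [show a = 5 by omega]; norm_num) |
        (rw [show b = 5 by omega]; norm_num) | (rw [show c = 5 by omega]; norm_num)
  exact Nat.le_of_lt_succ (by exact_mod_cast (by nlinarith [m.cast_nonneg (α := ℚ)] : (m : ℚ) < 16))

open Cfsg.Agent.Block Cfsg.Agent.Char in
theorem index_le_of_klein [IsSimpleGroup X] {P : Sylow 2 X} (hP : IsKleinFour P)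
    (hone : ∀ s t : X, orderOf s = 2 → orderOf t = 2 → IsConj s t) (ht : t ∈ (P : Subgroup X))
    (t2 : orderOf t = 2) (hC : C1[t] = C[(P : Subgroup X)]) : C1[t].index ≤ 15 := by
  have := Fintype.ofFinite X
  obtain ⟨M, _⟩ := Small.exists_pmod 2
  obtain ⟨a, b, c, δ, ha, hb, hc, hab, hac, hbc, hB, h1, -⟩ := klein_block3 (M := M) hP hone
  have v : ∀ χ ∈ principalBlock M X, (χ : X → ℂ) t = δ χ := fun χ h => (h1 χ h).2.2 t (by simp [t2])
  have K : KB M P t a b c (δ a) (δ b) (δ c) := ⟨hP, hone, ht, t2, by simp [hB], ha, hb, hc, hab, hac, hbc,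
    v a (by simp [hB]), v b (by simp [hB]), v c (by simp [hB])⟩
  have k : ∀ χ ∈ principalBlock M X, χ ≠ irrOne X → 4 ∣ δ χ * charDegree (χ : X → ℂ) - 1 ∧
      δ χ * charDegree (χ : X → ℂ) ≠ 1 ∧ (δ χ : ℚ) ^ 3 / charDegree (χ : X → ℂ) =
        1 / (δ χ * charDegree (χ : X → ℂ) : ℤ) := fun χ h h' => by
    have k : δ χ ≠ charDegree (χ : X → ℂ) := fun r => ne_one_of t2 (mem_bot.1
      (IsIrrCharacter.charKer_eq_bot_of_simple χ.2 (fun e => h' (Subtype.ext e)) ▸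
        (IsIrrCharacter.isCharacter χ.2).mem_charKer.2 (by rw [v χ h, r, ← deg_cast_irr]; simp)))
    obtain ⟨r | r, s, -⟩ := h1 χ h <;> rw [r] at s k ⊢ <;> refine ⟨by omega, by omega, by norm_num [neg_div]⟩
  have o := K.order'
  rw [(k a (by simp [hB]) ha).2.2, (k b (by simp [hB]) hb).2.2, (k c (by simp [hB]) hc).2.2, ← hC,
    ← C1[t].card_mul_index] at o
  refine arith15 (k a (by simp [hB]) ha).1 (k b (by simp [hB]) hb).1 (k c (by simp [hB]) hc).1
    (k a (by simp [hB]) ha).2.1 (k b (by simp [hB]) hb).2.1 (k c (by simp [hB]) hc).2.1 K.deg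
    (mul_left_cancel₀ (Nat.cast_ne_zero.2 (cardG_ne_zero C1[t])) ?_)
  rw [← mul_assoc, ← Nat.cast_mul, o, div_eq_iff (pow_ne_zero _ (Nat.cast_ne_zero.2 (cardG_ne_zero _)))]
  ring

end Cfsg.Agent.GW
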